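import Cfsg.Agent.Lib.Recog.SporBound.Sound

set_option autoImplicit false
set_option maxRecDepth 20000

/-! Generated certificate data, piece 0: the case ThreeB collapses (owner: helper29). -/

namespace CfsgLib.Recog.SporBound.J3TThreeB
open CfsgLib.Recog.SporBound

noncomputable def ft0 : Q (ℕ) := (.leaf 0x2f0000000003f0000300009f0000300004f0000200005f0000600000f0000300003500002000025000000000060000100000f00000000002000030000220000500008f0000600007f00007000072000040000820000600006200001000013000010000140000000000100000000005000030000940000700008700006000071000050000670000400005100003000047000020000310000000002700000000010)
noncomputable def ct0 : Q (ℕ) := (.leaf 0)
noncomputable def st0 : Q (List ℕ) := (.leaf [62, 63, 0x100001000000000000040, 0x100001000000000000041, 0x5000040000300002000010000a000010000200003000040000500006000060000c00001000070000c0001e, 0x4000040000300002000010000a00001000020000300004000050000600007000000000d00008000000001e, 0x70000600005000040000e0000100004000080000400017, 0x60000f000060000d000060000f0000000006000070000100008, 0x500010000070000000003000080000000007, 0x20000300004000030000e000110000300003000050000200017, 0x10000a0000100002000120000100004000020000400017, 0xa00013000000000c00000000000000a00013000050000300000000020000b, 0xa0000a000130001400000000130000a0001400000000140000b00000000140000b000000000a00013000140000000013000010001300000000020000d,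 0x10000900001000140000b000140000200004000000000400019, 0x200002000160000100002000020000000011, 0x100000600005000040000300002000010000a0000100002000030000400005000100000600005000040000300002000010000000014000000000000042, 0x100018000050000000003000050000000007, 0x200019000040000000003000040000000001, 0x170001a00003000170001a00003000080000000007000090000400019, 0xa00001000020001b0000800002000010000a000140000b000140000a00001000020001b00008000000001000003000020001c, 0xa0001c000020000000003000020000000001])
noncomputable def et0 : Q (List ℕ) := (.leaf [0x14000000000200000, 0xa0000100000, 0x130000100000, 0x140000c000140000300000, 0x140000b000140000300000, 0x90000100000, 0x150000100000, 0x1d000010000200000])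

end CfsgLib.Recog.SporBound.J3TThreeB
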